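import Cfsg.Agent.Lib.Involution.Dihedral
import Mathlib.GroupTheory.FiniteAbelian.Basic
import Mathlib.FieldTheory.Finite.Basic

/-!
The automorphisms of coprime order of an abelian `p`-group with distinct invariants.
-/

set_option autoImplicit false

namespace Cfsg.Agent.SupersolType

universe u

variable {T : Type u} [CommGroup T] {p : ℕ} [Fact p.Prime]

/-- `x` is a `p^j`-th power of order dividing `p`. -/
def InLayer (p j : ℕ) (x : T) : Prop := x ^ p = 1 ∧ ∃ y, y ^ p ^ j = x

omit [CommGroup T] in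
theorem orderOf_mulSingle' {ι : Type*} [DecidableEq ι] {M : ι → Type*} [∀ i, Monoid (M i)] (i : ι)
    (x : M i) : orderOf (Pi.mulSingle i x : ∀ i, M i) = orderOf x :=
  orderOf_injective (MonoidHom.mulSingle M i) (Pi.mulSingle_injective i) x

/-- Distinct invariants: every layer is cyclic. -/
theorem exists_layer_gen [Finite T] (hT : IsPGroup p T)
    (hne : ¬ ∃ (n : ℕ) (H : Type) (_ : CommGroup H), 0 < n ∧
      Nonempty (T ≃* (Multiplicative (ZMod (p ^ n)) × Multiplicative (ZMod (p ^ n))) × H)) (j : ℕ) :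
    ∃ u : T, InLayer p j u ∧ ∀ x : T, InLayer p j x → ∃ (k : ℕ) (z : T),
      x = u ^ k * z ^ p ^ (j + 1) := by
  classical
  obtain ⟨ι, hι, N, hN, ⟨e⟩⟩ := CommGroup.equiv_prod_multiplicative_zmod_of_finite T
  have hNe : ∀ i, ∃ m : ℕ, 0 < m ∧ N i = p ^ m := by
    intro i
    have hg : orderOf (Multiplicative.ofAdd (1 : ZMod (N i))) = N i := by
      rw [orderOf_ofAdd_eq_addOrderOf, ZMod.addOrderOf_one]
    obtain ⟨m, hm⟩ := (IsPGroup.iff_orderOf.mp hT)
      (e.symm (Pi.mulSingle i (Multiplicative.ofAdd (1 : ZMod (N i)))))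
    rw [MulEquiv.orderOf_eq, orderOf_mulSingle', hg] at hm
    refine ⟨m, Nat.pos_of_ne_zero fun h0 => ?_, hm⟩
    have := hN i; rw [hm, h0, pow_zero] at this; omega
  choose m hmpos hm using hNe
  have huniq : ∀ a b, a ≠ b → m a ≠ m b := by
    intro a b hab he
    refine hne ⟨m a, (∀ i : {i : ι // ¬ (i = a ∨ i = b)}, Multiplicative (ZMod (N i))),
      inferInstance, hmpos a, ?_⟩
    have ea : Multiplicative (ZMod (N a)) ≃* Multiplicative (ZMod (p ^ m a)) :=
      (ZMod.ringEquivCongr (hm a)).toAddEquiv.toMultiplicative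
    have eb : Multiplicative (ZMod (N b)) ≃* Multiplicative (ZMod (p ^ m a)) :=
      (ZMod.ringEquivCongr ((hm b).trans (by rw [he]))).toAddEquiv.toMultiplicative
    refine ⟨e.trans (MulEquiv.mk'
      { toFun := fun f => ((ea (f a), eb (f b)), fun i => f i)
        invFun := fun q i =>
          if h : i = a then h ▸ ea.symm q.1.1
          else if h' : i = b then h' ▸ eb.symm q.1.2
          else q.2 ⟨i, not_or.mpr ⟨h, h'⟩⟩
        left_inv := fun f => funext fun i => by
          by_cases h : i = a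
          · subst h; simp
          · by_cases h' : i = b
            · subst h'; simp [h]
            · simp [h, h']
        right_inv := fun q => by
          refine Prod.ext (Prod.ext ?_ ?_) (funext fun i => ?_)
          · simp
          · simp [Ne.symm hab]
          · simp [(not_or.mp i.2).1, (not_or.mp i.2).2] }
      fun f g => by
        simp only [Equiv.coe_fn_mk, Pi.mul_apply, map_mul]; rfl)⟩
  have hcomp : ∀ i, ∀ y : Multiplicative (ZMod (N i)), (y ^ p ^ j) ^ p = 1 →
      (m i = j + 1 → ∃ k : ℕ, y ^ p ^ j = (Multiplicative.ofAdd (1 : ZMod (N i)) ^ p ^ j) ^ k) ∧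
      (m i ≠ j + 1 → ∃ z, y ^ p ^ j = z ^ p ^ (j + 1)) := by
    intro i y hy
    haveI : NeZero (N i) := ⟨by rw [hm i]; exact pow_ne_zero _ (Fact.out : p.Prime).ne_zero⟩
    have hord : orderOf (Multiplicative.ofAdd (1 : ZMod (N i))) = p ^ m i := by
      rw [orderOf_ofAdd_eq_addOrderOf, ZMod.addOrderOf_one, hm i]
    set g := Multiplicative.ofAdd (1 : ZMod (N i)) with hg
    set a := (Multiplicative.toAdd y).val
    have hya : y = g ^ a := by
      rw [hg, ← ofAdd_nsmul, nsmul_one, ZMod.natCast_zmod_val, ofAdd_toAdd]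
    refine ⟨fun _ => ⟨a, by rw [hya, ← pow_mul, ← pow_mul, mul_comm]⟩, fun hne' => ?_⟩
    rcases Nat.lt_or_ge j (m i) with hlt | hge
    · have hd : p ^ m i ∣ a * p ^ (j + 1) := by
        rw [← hord, orderOf_dvd_iff_pow_eq_one, pow_succ, ← mul_assoc, pow_mul, pow_mul, ← hya, hy]
      have hpa : p ∣ a := by
        have h1 : p ^ (j + 1) * p ∣ a * p ^ (j + 1) := by
          rw [← pow_succ]
          exact (pow_dvd_pow p (by omega : j + 1 + 1 ≤ m i)).trans hd
        rw [mul_comm a] at h1
        exact Nat.dvd_of_mul_dvd_mul_left (pow_pos (Fact.out : p.Prime).pos _) h1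
      obtain ⟨c, hc⟩ := hpa
      refine ⟨g ^ c, ?_⟩
      rw [hya, hc, ← pow_mul, ← pow_mul]
      congr 1
      ring
    · refine ⟨1, ?_⟩
      rw [one_pow, hya, ← pow_mul, ← orderOf_dvd_iff_pow_eq_one, hord]
      exact dvd_mul_of_dvd_right (pow_dvd_pow p hge) a
  by_cases hex : ∃ i, m i = j + 1
  · obtain ⟨i0, hi0⟩ := hex
    set g0 := Multiplicative.ofAdd (1 : ZMod (N i0)) with hg0
    have hord : orderOf g0 = p ^ m i0 := by
      rw [hg0, orderOf_ofAdd_eq_addOrderOf, ZMod.addOrderOf_one, hm i0]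
    refine ⟨e.symm (Pi.mulSingle i0 g0) ^ p ^ j, ⟨?_, _, rfl⟩, ?_⟩
    · rw [← pow_mul, ← pow_succ, ← orderOf_dvd_iff_pow_eq_one, MulEquiv.orderOf_eq,
        orderOf_mulSingle', hord, hi0]
    · rintro x ⟨hxp, y, rfl⟩
      have hy : ∀ i, ((e y) i ^ p ^ j) ^ p = 1 := by
        intro i
        have := congrFun (congrArg e hxp) i
        simpa using this
      obtain ⟨k, hk⟩ := (hcomp i0 (e y i0) (hy i0)).1 hi0
      have hz : ∀ i, ∃ z, i ≠ i0 → e y i ^ p ^ j = z ^ p ^ (j + 1) := by
        intro i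
        by_cases h : i = i0
        · exact ⟨1, fun h' => absurd h h'⟩
        · obtain ⟨z, hz⟩ := (hcomp i (e y i) (hy i)).2 fun h' => huniq i i0 h (h'.trans hi0.symm)
          exact ⟨z, fun _ => hz⟩
      choose z hz using hz
      refine ⟨k, e.symm (Function.update z i0 1), e.injective (funext fun i => ?_)⟩
      simp only [map_mul, map_pow, MulEquiv.apply_symm_apply, Pi.mul_apply, Pi.pow_apply]
      by_cases h : i = i0
      · subst h
        rw [Function.update_self, one_pow, mul_one, Pi.mulSingle_eq_same, hk]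
      · rw [Function.update_of_ne h, Pi.mulSingle_eq_of_ne h, one_pow, one_pow, one_mul, hz i h]
  · refine ⟨1, ⟨one_pow _, 1, one_pow _⟩, ?_⟩
    rintro x ⟨hxp, y, rfl⟩
    have hy : ∀ i, ((e y) i ^ p ^ j) ^ p = 1 := by
      intro i
      have := congrFun (congrArg e hxp) i
      simpa using this
    choose z hz using fun i => (hcomp i (e y i) (hy i)).2 fun h' => hex ⟨i, h'⟩
    refine ⟨0, e.symm z, e.injective (funext fun i => ?_)⟩
    simp only [map_mul, map_pow, MulEquiv.apply_symm_apply, Pi.mul_apply, Pi.pow_apply, pow_zero,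
      one_mul]
    exact hz i

/-- Distinct invariants give small automorphism groups of coprime order. -/
theorem coprime_aut_abelian [Finite T] (hT : IsPGroup p T)
    (hne : ¬ ∃ (n : ℕ) (H : Type) (_ : CommGroup H), 0 < n ∧
      Nonempty (T ≃* (Multiplicative (ZMod (p ^ n)) × Multiplicative (ZMod (p ^ n))) × H))
    (H : Subgroup (MulAut T)) (hH : (Nat.card H).Coprime p) :
    IsMulCommutative H ∧ ∀ h ∈ H, h ^ (p - 1) = 1 := by
  classical
  have hpw : ∀ (σ : MulAut T) (j : ℕ), ∃ a : ℕ, (∀ x, InLayer p j x →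
      ∃ z : T, σ x = x ^ a * z ^ p ^ (j + 1)) ∧
      (∀ x, InLayer p j x → ∃ z : T, x ^ a ^ (p - 1) = x * z ^ p ^ (j + 1)) := by
    intro σ j
    obtain ⟨u, ⟨hup, y, hy⟩, hgen⟩ := exists_layer_gen hT hne j
    obtain ⟨a, z0, ha⟩ := hgen (σ u) ⟨by rw [← map_pow, hup, map_one], σ y, by rw [← map_pow, hy]⟩
    refine ⟨a, fun x hx => ?_, fun x hx => ?_⟩
    · obtain ⟨k, z, rfl⟩ := hgen x hx
      refine ⟨z0 ^ k * σ z * (z ^ a)⁻¹, ?_⟩
      simp only [map_mul, map_pow, ha]
      apply Additive.ofMul.injective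
      simp only [ofMul_mul, ofMul_pow, ofMul_inv]
      module
    · by_cases hu : ∃ w : T, u = w ^ p ^ (j + 1)
      · obtain ⟨w, hw⟩ := hu
        obtain ⟨k, z, hx'⟩ := hgen x hx
        have hx1 : x = (w ^ k * z) ^ p ^ (j + 1) := by
          rw [hx', hw, mul_pow, ← pow_mul, ← pow_mul, Nat.mul_comm k]
        refine ⟨(w ^ k * z) ^ a ^ (p - 1) * (w ^ k * z)⁻¹, ?_⟩
        conv_lhs => rw [hx1]
        conv_rhs => rw [hx1]
        apply Additive.ofMul.injective
        simp only [ofMul_mul, ofMul_pow, ofMul_inv]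
        module
      · have ha0 : (a : ZMod p) ≠ 0 := by
          intro h0
          rw [ZMod.natCast_eq_zero_iff] at h0
          obtain ⟨c, rfl⟩ := h0
          rw [pow_mul, hup, one_pow, one_mul] at ha
          refine hu ⟨σ.symm z0, ?_⟩
          rw [← map_pow, ← ha, MulEquiv.symm_apply_apply]
        refine ⟨1, ?_⟩
        rw [one_pow, mul_one]
        conv_rhs => rw [← pow_one x]
        rw [pow_eq_pow_iff_modEq]
        refine Nat.ModEq.of_dvd (orderOf_dvd_of_pow_eq_one hx.1) ?_
        rw [← ZMod.natCast_eq_natCast_iff, Nat.cast_pow, Nat.cast_one,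
          ZMod.pow_card_sub_one_eq_one ha0]
  -- an automorphism of coprime order acting trivially on every layer is trivial
  have key : ∀ σ : MulAut T, (orderOf σ).Coprime p →
      (∀ j x, InLayer p j x → ∃ z, σ x = x * z ^ p ^ (j + 1)) → σ = 1 := by
    intro σ hσ hlay
    have hcoprime : ∀ x d : T, σ x = x * d → σ d = d → d ^ p = 1 → d = 1 := by
      intro x d hxd hd hdp
      have hpow : ∀ N : ℕ, (σ ^ N) x = x * d ^ N := by
        intro N
        induction N with
        | zero => simp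
        | succ N ih => rw [pow_succ', MulAut.mul_apply, ih, map_mul, map_pow, hd, hxd, pow_succ',
            mul_assoc]
      have h1 := hpow (orderOf σ)
      rw [pow_orderOf_eq_one, MulAut.one_apply, left_eq_mul] at h1
      rw [← orderOf_eq_one_iff]
      exact Nat.dvd_one.mp (hσ ▸
        Nat.dvd_gcd (orderOf_dvd_of_pow_eq_one h1) (orderOf_dvd_of_pow_eq_one hdp))
    obtain ⟨e, he⟩ : ∃ e, Nat.card T = p ^ e := IsPGroup.iff_card.mp hT
    have homega : ∀ i j, e ≤ i + j → ∀ x, InLayer p j x → σ x = x := by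
      intro i
      induction i with
      | zero =>
        rintro j hj x ⟨-, y, rfl⟩
        have : y ^ p ^ j = 1 := by
          rw [← orderOf_dvd_iff_pow_eq_one]
          exact (orderOf_dvd_natCard y).trans (he ▸ pow_dvd_pow p (by omega))
        rw [this, map_one]
      | succ i ih =>
        intro j hj x hx
        obtain ⟨z, hz⟩ := hlay j x hx
        have hdp : (z ^ p ^ (j + 1)) ^ p = 1 := by
          have h1 : σ x ^ p = 1 := by rw [← map_pow, hx.1, map_one]
          rwa [hz, mul_pow, hx.1, one_mul] at h1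
        have hd := ih (j + 1) (by omega) (z ^ p ^ (j + 1)) ⟨hdp, z, rfl⟩
        rw [hz, hcoprime x _ hz hd hdp, mul_one]
    have hall : ∀ k, ∀ x : T, x ^ p ^ k = 1 → σ x = x := by
      intro k
      induction k with
      | zero => intro x hx; rw [pow_zero, pow_one] at hx; rw [hx, map_one]
      | succ k ih =>
        intro x hx
        have hxd : σ x = x * (x⁻¹ * σ x) := (mul_inv_cancel_left _ _).symm
        have hdp : (x⁻¹ * σ x) ^ p = 1 := by
          have h1 := ih (x ^ p) (by rw [← pow_mul, ← pow_succ']; exact hx)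
          rw [mul_pow, inv_pow, ← map_pow, h1, inv_mul_cancel]
        have hd := homega e 0 le_self_add (x⁻¹ * σ x) ⟨hdp, x⁻¹ * σ x, by simp⟩
        rw [hxd, hcoprime x _ hxd hd hdp, mul_one]
    refine MulEquiv.ext fun x => ?_
    obtain ⟨k, hk⟩ := hT x
    exact hall k x hk
  have hord : ∀ h ∈ H, (orderOf h).Coprime p := fun h hh =>
    hH.coprime_dvd_left (by rw [← Subgroup.orderOf_mk h hh]; exact orderOf_dvd_natCard _)
  have hinv : ∀ (σ : MulAut T) j x, InLayer p j x → InLayer p j (σ x) := by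
    rintro σ j x ⟨hx, y, hy⟩
    exact ⟨by rw [← map_pow, hx, map_one], σ y, by rw [← map_pow, hy]⟩
  refine ⟨⟨⟨fun g h => Subtype.ext ?_⟩⟩, fun h hh => ?_⟩
  · have hk : (g : MulAut T) * h * (g : MulAut T)⁻¹ * (h : MulAut T)⁻¹ = 1 := by
      refine key _ (hord _ (mul_mem (mul_mem (mul_mem g.2 h.2) (inv_mem g.2)) (inv_mem h.2))) ?_
      intro j x hx
      obtain ⟨a, ha, -⟩ := hpw g j
      obtain ⟨b, hb, -⟩ := hpw h j
      set w := ((g : MulAut T)⁻¹ * (h : MulAut T)⁻¹) x with hw
      have hwl : InLayer p j w := hinv _ j x hx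
      obtain ⟨z1, e1⟩ := ha w hwl
      obtain ⟨z2, e2⟩ := hb _ (hinv g j w hwl)
      obtain ⟨z3, e3⟩ := hb w hwl
      obtain ⟨z4, e4⟩ := ha _ (hinv h j w hwl)
      have hx' : x = (h : MulAut T) ((g : MulAut T) w) := by rw [hw]; simp
      refine ⟨z3 ^ a * z4 * (z1 ^ b * z2)⁻¹, ?_⟩
      rw [show ((g : MulAut T) * h * (g : MulAut T)⁻¹ * (h : MulAut T)⁻¹) x =
        (g : MulAut T) ((h : MulAut T) w) from rfl]
      conv_rhs => rw [hx', e2, e1]
      rw [e4, e3]
      apply Additive.ofMul.injective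
      simp only [ofMul_mul, ofMul_pow, ofMul_inv]
      module
    exact commutatorElement_eq_one_iff_mul_comm.mp (by rw [commutatorElement_def]; exact hk)
  · refine key _ (hord _ (pow_mem hh _)) ?_
    intro j x hx
    obtain ⟨a, ha, ha'⟩ := hpw h j
    have hpow : ∀ N : ℕ, ∃ z, (h ^ N) x = x ^ a ^ N * z ^ p ^ (j + 1) := by
      intro N
      induction N with
      | zero => exact ⟨1, by simp⟩
      | succ N ih =>
        obtain ⟨z, hz⟩ := ih
        obtain ⟨z', hz'⟩ := ha x hx
        refine ⟨z' ^ a ^ N * h z, ?_⟩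
        rw [pow_succ' h, MulAut.mul_apply, hz, map_mul, map_pow, map_pow, hz', mul_pow, mul_pow,
          ← pow_mul, ← pow_mul, ← pow_mul, ← pow_succ', mul_comm (p ^ (j + 1)), mul_assoc]
    obtain ⟨z, hz⟩ := hpow (p - 1)
    obtain ⟨z', hz'⟩ := ha' x hx
    exact ⟨z' * z, by rw [hz, hz', mul_pow, mul_assoc]⟩

/-- A repeated invariant gives a bad group of automorphisms of coprime order. -/
theorem exists_bad_aut {n : ℕ} (hn : 0 < n) {H : Type*} [CommGroup H]
    (e : T ≃* (Multiplicative (ZMod (p ^ n)) × Multiplicative (ZMod (p ^ n))) × H)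
    (h : ∀ X : Subgroup (MulAut T), (Nat.card X).Coprime p →
      IsMulCommutative X ∧ ∀ g ∈ X, g ^ (p - 1) = 1) : False := by
  classical
  have hpp : p.Prime := Fact.out
  haveI : Fact (1 < p ^ n) := ⟨Nat.one_lt_pow hn.ne' hpp.one_lt⟩
  set g := Multiplicative.ofAdd (1 : ZMod (p ^ n))
  have hg : orderOf g = p ^ n := by rw [orderOf_ofAdd_eq_addOrderOf, ZMod.addOrderOf_one]
  have hg1 : g ≠ 1 := fun h1 => by
    rw [h1, orderOf_one] at hg
    exact (Fact.out : 1 < p ^ n).ne hg
  let lift : MulAut (Multiplicative (ZMod (p ^ n)) × Multiplicative (ZMod (p ^ n))) → MulAut T :=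
    fun σ => (e.trans (σ.prodCongr (MulEquiv.refl H))).trans e.symm
  have hlift : ∀ σ x, lift σ x = e.symm (σ (e x).1, (e x).2) := fun σ x => rfl
  have hmul : ∀ σ τ, lift (σ * τ) = lift σ * lift τ := fun σ τ => MulEquiv.ext fun x => by
    rw [MulAut.mul_apply, hlift, hlift, hlift, MulEquiv.apply_symm_apply, MulAut.mul_apply]
  have hone : lift 1 = 1 := MulEquiv.ext fun x => by
    rw [hlift, MulAut.one_apply, MulAut.one_apply]; exact e.symm_apply_apply x
  let L : MulAut (Multiplicative (ZMod (p ^ n)) × Multiplicative (ZMod (p ^ n))) →* MulAut T :=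
    { toFun := lift, map_one' := hone, map_mul' := hmul }
  have hL : Function.Injective L := by
    intro σ τ hst
    refine MulEquiv.ext fun q => ?_
    have := congrArg (fun ρ : MulAut T => (e (ρ (e.symm (q, 1)))).1) hst
    simpa [L, hlift] using this
  by_cases hp2 : p = 2
  · let c : MulAut (Multiplicative (ZMod (p ^ n)) × Multiplicative (ZMod (p ^ n))) :=
      { toFun := fun q => (q.2, (q.1 * q.2)⁻¹)
        invFun := fun q => ((q.1 * q.2)⁻¹, q.1)
        left_inv := fun q => by simp [mul_comm, mul_left_comm]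
        right_inv := fun q => by simp [mul_comm]
        map_mul' := fun a b => by simp [mul_comm, mul_left_comm, mul_assoc] }
    have hcv : ∀ q, c q = (q.2, (q.1 * q.2)⁻¹) := fun _ => rfl
    have hc3 : c ^ 3 = 1 := MulEquiv.ext fun q => by
      simp [hcv, pow_succ, MulAut.mul_apply, mul_comm, mul_left_comm]
    have hcop : (Nat.card (Subgroup.zpowers (L c))).Coprime p := by
      rw [Nat.card_zpowers]
      refine Nat.Coprime.coprime_dvd_left (orderOf_dvd_of_pow_eq_one (n := 3) ?_) ?_
      · rw [← map_pow, hc3, map_one]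
      · rw [hp2]; decide
    have h1 := (h _ hcop).2 _ (Subgroup.mem_zpowers _)
    rw [show p - 1 = 1 by omega, pow_one] at h1
    have h2 := congrArg (fun σ : MulAut _ => σ (g, 1)) (hL (h1.trans L.map_one.symm))
    simp [hcv] at h2
    exact hg1 h2.1.symm
  · let s : MulAut (Multiplicative (ZMod (p ^ n)) × Multiplicative (ZMod (p ^ n))) :=
      MulEquiv.prodComm
    let t : MulAut (Multiplicative (ZMod (p ^ n)) × Multiplicative (ZMod (p ^ n))) :=
      (MulEquiv.refl _).prodCongr (MulEquiv.inv _)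
    have hsv : ∀ q, s q = (q.2, q.1) := fun _ => rfl
    have htv : ∀ q, t q = (q.1, q.2⁻¹) := fun _ => rfl
    have hgg : g ≠ g⁻¹ := fun h1 => by
      have h2 : g ^ 2 = 1 := by rw [pow_two]; nth_rw 2 [h1]; exact mul_inv_cancel g
      have h3 := orderOf_dvd_of_pow_eq_one h2
      rw [hg] at h3
      have h4 : p ∣ 2 := (dvd_pow_self p hn.ne').trans h3
      exact hp2 ((Nat.prime_dvd_prime_iff_eq hpp Nat.prime_two).mp h4)
    have hne' : s * t ≠ t * s := fun h1 => by
      have h2 := congrArg (fun σ : MulAut _ => σ (g, 1)) h1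
      simp [hsv, htv, MulAut.mul_apply] at h2
      exact hgg h2
    have hs : orderOf (L s) = 2 := by
      refine orderOf_eq_prime ?_ fun h1 => hne' ?_
      · rw [← map_pow, show s ^ 2 = 1 from MulEquiv.ext fun q => by
          simp [hsv, pow_two, MulAut.mul_apply], map_one]
      · rw [hL (h1.trans L.map_one.symm), one_mul, mul_one]
    have ht : orderOf (L t) = 2 := by
      refine orderOf_eq_prime ?_ fun h1 => hne' ?_
      · rw [← map_pow, show t ^ 2 = 1 from MulEquiv.ext fun q => by
          simp [htv, pow_two, MulAut.mul_apply], map_one]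
      · rw [hL (h1.trans L.map_one.symm), one_mul, mul_one]
    obtain ⟨ed⟩ := Involution.closure_pair_equiv_dihedral hs ht
    have hst4 : orderOf (L s * L t) ∣ 4 := by
      refine orderOf_dvd_of_pow_eq_one ?_
      rw [← map_mul, ← map_pow, show (s * t) ^ 4 = 1 from MulEquiv.ext fun q => by
        simp [hsv, htv, pow_succ, MulAut.mul_apply], map_one]
    have hcop : (Nat.card (Subgroup.closure ({L s, L t} : Set (MulAut T)))).Coprime p := by
      rw [Nat.card_congr ed.toEquiv, DihedralGroup.nat_card]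
      refine Nat.Coprime.coprime_dvd_left (Nat.mul_dvd_mul_left 2 hst4) ?_
      rw [show 2 * 4 = 2 ^ 3 by rfl]
      exact ((Nat.coprime_primes Nat.prime_two hpp).mpr (Ne.symm hp2)).pow_left 3
    refine hne' (hL ?_)
    rw [map_mul, map_mul]
    exact congrArg Subtype.val ((h _ hcop).1.is_comm.comm
      ⟨L s, Subgroup.subset_closure (by simp)⟩ ⟨L t, Subgroup.subset_closure (by simp)⟩)

end Cfsg.Agent.SupersolType
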