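import Mathlib

/-!
Embedding a group with a cyclic subgroup of index two from a pair satisfying the same relations.
-/

set_option autoImplicit false

namespace Cfsg.Agent.SupersolType

universe u v

/-- The product rule for the normal forms `x ^ i * y ^ b`. -/
theorem normalForm_mul {T : Type u} [Group T] {t r : ℕ} {x y : T} (hy2 : y * y = x ^ t)
    (hc : y * x * y⁻¹ = x ^ r) (i j : ℕ) (b c : Bool) :
    x ^ i * y ^ b.toNat * (x ^ j * y ^ c.toNat) =
      x ^ (i + (if b then r * j else j) + (if b && c then t else 0)) * y ^ (xor b c).toNat := by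
  have hj : y * x ^ j = x ^ (r * j) * y := by
    rw [pow_mul, ← hc, conj_pow, inv_mul_cancel_right]
  cases b <;> cases c <;> simp [pow_add, mul_assoc]
  · rw [hj]
  · rw [← mul_assoc y, hj, mul_assoc, hy2]

/-- Normal forms are distinct. -/
theorem normalForm_injective {M : Type u} [Group M] {N : ℕ} {u v : M} (hu : orderOf u = N)
    (hv : v ∉ Subgroup.zpowers u) :
    Function.Injective (fun z : Fin N × Bool => u ^ z.1.val * v ^ z.2.toNat) := by
  rintro ⟨i, b⟩ ⟨j, c⟩ h
  have hbc : b = c := by
    cases b <;> cases c <;> simp only [Bool.toNat_false, Bool.toNat_true, pow_zero, pow_one,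
      mul_one] at h <;> first | rfl | (exfalso; apply hv)
    · rw [show v = (u ^ j.val)⁻¹ * u ^ i.val by rw [h, inv_mul_cancel_left]]
      exact mul_mem (inv_mem (pow_mem (Subgroup.mem_zpowers u) _))
        (pow_mem (Subgroup.mem_zpowers u) _)
    · rw [show v = (u ^ i.val)⁻¹ * u ^ j.val by rw [← h, inv_mul_cancel_left]]
      exact mul_mem (inv_mem (pow_mem (Subgroup.mem_zpowers u) _))
        (pow_mem (Subgroup.mem_zpowers u) _)
  subst hbc
  refine Prod.ext (Fin.ext ?_) rfl
  exact pow_injOn_Iio_orderOf (by simp [hu]) (by simp [hu]) (mul_right_cancel h)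

/-- The map given by generators and relations, when the source has a cyclic subgroup of index 2. -/
theorem exists_embed {T : Type u} [Group T] [Finite T] {G : Type v} [Group G] {N t r : ℕ}
    (hN : 0 < N) {x y : T} {X Y : G} (hcard : Nat.card T = 2 * N)
    (hx : orderOf x = N) (hy : y ∉ Subgroup.zpowers x) (hy2 : y * y = x ^ t)
    (hc : y * x * y⁻¹ = x ^ r)
    (hX : orderOf X = N) (hY : Y ∉ Subgroup.zpowers X) (hY2 : Y * Y = X ^ t)
    (hC : Y * X * Y⁻¹ = X ^ r) :
    ∃ ι : T →* G, Function.Injective ι ∧ ι x = X ∧ ι y = Y := by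
  classical
  let φ : Fin N × Bool → T := fun z => x ^ z.1.val * y ^ z.2.toNat
  let ψ : Fin N × Bool → G := fun z => X ^ z.1.val * Y ^ z.2.toNat
  have hφi : Function.Injective φ := normalForm_injective hx hy
  have hψi : Function.Injective ψ := normalForm_injective hX hY
  have hφb : Function.Bijective φ :=
    (Nat.bijective_iff_injective_and_card φ).mpr ⟨hφi, by
      rw [hcard, Nat.card_prod, Nat.card_fin, Nat.card_eq_fintype_card, Fintype.card_bool,
        Nat.mul_comm]⟩
  let e := Equiv.ofBijective φ hφb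
  have hsymm : ∀ z, e.symm (φ z) = z := fun z => e.symm_apply_apply z
  have hmod : ∀ (i : ℕ) (b : Bool), X ^ i * Y ^ b.toNat = ψ (e.symm (x ^ i * y ^ b.toNat)) := by
    intro i b
    rw [show x ^ i * y ^ b.toNat = φ (⟨i % N, Nat.mod_lt _ hN⟩, b) by
      simp only [φ]; rw [← hx, pow_mod_orderOf], hsymm]
    simp only [ψ]
    rw [← hX, pow_mod_orderOf]
  refine ⟨{ toFun := fun s => ψ (e.symm s), map_one' := ?_, map_mul' := ?_ },
    hψi.comp e.symm.injective, ?_, ?_⟩
  · simpa using (hmod 0 false).symm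
  · intro a b
    obtain ⟨⟨i, bb⟩, rfl⟩ := e.surjective a
    obtain ⟨⟨j, cc⟩, rfl⟩ := e.surjective b
    rw [Equiv.symm_apply_apply, Equiv.symm_apply_apply]
    change ψ (e.symm (x ^ i.val * y ^ bb.toNat * (x ^ j.val * y ^ cc.toNat))) = _
    rw [normalForm_mul hy2 hc, ← hmod]
    exact (normalForm_mul hY2 hC _ _ _ _).symm
  · simpa using (hmod 1 false).symm
  · simpa using (hmod 0 true).symm

end Cfsg.Agent.SupersolType
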