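import Cfsg.Agent.Lib.SupersolType.Fusion
import Cfsg.Agent.Lib.SupersolType.TwoGenEmbed

/-!
Saturated systems in which `S` is not normal, from finite groups with a Sylow subgroup `S`.
-/

set_option autoImplicit false

namespace Cfsg.Agent.SupersolType

open Cfsg

universe u v

variable {Ω : Type u} [Group Ω] {S : Subgroup Ω} [Finite S] {p : ℕ} [Fact p.Prime]

/-- Two elements conjugate in an overgroup with Sylow subgroup `S` are conjugate under `Aut S`,
if all saturated systems on `S` are supersoluble. -/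
theorem exists_aut_of_conj (hS : IsPGroup p S)
    (h : ∀ F : FusionSystem S, F.IsSaturated p → Supersoluble F) {G : Type v} [Group G] [Finite G]
    (ι : S →* G) (hι : Function.Injective ι) (hidx : ¬ p ∣ ι.range.index) {a b : S} {g : G}
    (hg : g * ι a * g⁻¹ = ι b) : ∃ α : MulAut S, α a = b := by
  have hF := pullback_saturated hS ι hι hidx
  have hn := isNormal_of_supersoluble hS hF (h _ hF)
  let P : Subgroup Ω := Subgroup.zpowers (a : Ω)
  have hP : P ≤ S := Subgroup.zpowers_le.mpr a.2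
  let f : P →* G := (MulAut.conj g).toMonoidHom.comp (ι.comp (Subgroup.inclusion hP))
  have hf : ∀ w : P, f w ∈ ι.range := by
    intro w
    obtain ⟨k, hk⟩ := Subgroup.mem_zpowers_iff.mp w.2
    refine ⟨b ^ k, ?_⟩
    change ι (b ^ k) = g * ι ⟨w, hP w.2⟩ * g⁻¹
    rw [show (⟨w, hP w.2⟩ : S) = a ^ k from Subtype.ext hk.symm, map_zpow, map_zpow, ← hg,
      conj_zpow]
  let φ : P →* Ω := S.subtype.comp
    ((MonoidHom.ofInjective hι).symm.toMonoidHom.comp (f.codRestrict ι.range hf))
  have hφS : ∀ w : P, φ w ∈ S := fun w => Subtype.mem _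
  have hφι : ∀ w : P, ι ⟨φ w, hφS w⟩ = f w := fun w =>
    congrArg Subtype.val ((MonoidHom.ofInjective hι).apply_symm_apply ⟨f w, hf w⟩)
  have hφ : φ ∈ (pullback ι hι).Hom P := ⟨hP, hφS, g, hφι⟩
  obtain ⟨ψ, hψ, hext, hmap⟩ := hn.2 P φ hφ
  have hle : S ≤ P ⊔ S := le_sup_right
  have hψS : ∀ s : S, ψ (Subgroup.inclusion hle s) ∈ S := fun s => by
    have : ψ (Subgroup.inclusion hle s) ∈ (S.subgroupOf (P ⊔ S)).map ψ := ⟨_, s.2, rfl⟩
    rwa [hmap] at this
  let A : S →* S := (ψ.comp (Subgroup.inclusion hle)).codRestrict S hψS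
  have hA : Function.Injective A := fun u w huw => by
    have h1 := (pullback ι hι).injective_of_mem hψ (congrArg Subtype.val huw)
    exact Subgroup.inclusion_injective hle h1
  refine ⟨MulEquiv.ofBijective A (Finite.injective_iff_bijective.mp hA), Subtype.ext ?_⟩
  change ψ (Subgroup.inclusion hle a) = _
  have ha : (a : Ω) ∈ P := Subgroup.mem_zpowers _
  rw [show Subgroup.inclusion hle a = Subgroup.inclusion le_sup_left ⟨(a : Ω), ha⟩ from rfl, hext]
  refine congrArg Subtype.val (hι (a₁ := ⟨φ ⟨(a : Ω), ha⟩, hφS _⟩) (a₂ := b) ?_)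
  rw [hφι, ← hg]
  rfl

omit [Finite S] in
/-- A 2-group with a cyclic subgroup of index two containing all squares of it:
no automorphism maps a square outside of that subgroup. -/
theorem no_aut_square_to_outside {x y : S} {N : ℕ} (hx : orderOf x = N)
    (hcard : Nat.card S = 2 * N) (hN : 0 < N) (c : S) (hy : y ∉ Subgroup.zpowers x) (α : MulAut S) :
    α (c * c) ≠ y := by
  intro h
  have hidx : (Subgroup.zpowers x).index = 2 := by
    have h1 := (Subgroup.zpowers x).card_mul_index
    rw [Nat.card_zpowers, hx, hcard, Nat.mul_comm 2] at h1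
    exact Nat.eq_of_mul_eq_mul_left hN h1
  exact hy (h ▸ by rw [map_mul]; exact Subgroup.mul_self_mem_of_index_two hidx (α c))

/-- The obstruction: a group with Sylow subgroup `S` fusing a square in the cyclic subgroup of index
two to an element outside. -/
theorem false_of_model (hS : IsPGroup 2 S)
    (h : ∀ F : FusionSystem S, F.IsSaturated 2 → Supersoluble F) {N t r e : ℕ} (hN : 0 < N)
    (he : Even e) {x y : S} (hcard : Nat.card S = 2 * N) (hx : orderOf x = N)
    (hy : y ∉ Subgroup.zpowers x) (hy2 : y * y = x ^ t) (hc : y * x * y⁻¹ = x ^ r)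
    {G : Type v} [Group G] [Finite G] {X Y : G} (hX : orderOf X = N)
    (hY : Y ∉ Subgroup.zpowers X) (hY2 : Y * Y = X ^ t) (hC : Y * X * Y⁻¹ = X ^ r)
    (hG : ¬ 2 * (2 * N) ∣ Nat.card G)
    (hconj : ∃ (g : G) (i : ℕ), g * X ^ e * g⁻¹ = X ^ i * Y) : False := by
  haveI : Fact (Nat.Prime 2) := ⟨Nat.prime_two⟩
  obtain ⟨ι, hι, hιx, hιy⟩ := exists_embed hN hcard hx hy hy2 hc hX hY hY2 hC
  have hidx : ¬ 2 ∣ ι.range.index := fun h2 => hG (by
    have h1 := ι.range.card_mul_index
    rw [← Nat.card_congr (MonoidHom.ofInjective hι).toEquiv, hcard] at h1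
    rw [← h1, Nat.mul_comm]
    exact Nat.mul_dvd_mul_left _ h2)
  obtain ⟨g, i, hg⟩ := hconj
  obtain ⟨α, hα⟩ := exists_aut_of_conj hS h ι hι hidx (a := x ^ e) (b := x ^ i * y) (g := g)
    (by rw [map_pow, map_mul, map_pow, hιx, hιy, hg])
  obtain ⟨d, rfl⟩ := he
  rw [pow_add] at hα
  refine no_aut_square_to_outside hx hcard hN (x ^ d) (fun hmem => hy ?_) α hα
  simpa using mul_mem (inv_mem (pow_mem (Subgroup.mem_zpowers x) i)) hmem

end Cfsg.Agent.SupersolType
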