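import Mathlib

/-!
Inside `GL(2, q)` for a prime `q ≡ 2 ^ a - 1 (mod 2 ^ (a + 1))`: a semidihedral group of odd index,
and two elements of order 4 in it conjugate in the whole group.
-/

set_option autoImplicit false

namespace Cfsg.Agent.SupersolType

open Matrix

theorem exists_prime_class {a : ℕ} (ha : 2 ≤ a) :
    ∃ q : ℕ, q.Prime ∧ ∃ k : ℕ, q = 2 ^ (a + 1) * k + (2 ^ a - 1) := by
  have h4 : 4 ≤ 2 ^ a := le_trans (by norm_num) (Nat.pow_le_pow_right (by norm_num) ha)
  have hodd : Odd (2 ^ a - 1) := Nat.Even.sub_odd (by omega)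
    (Nat.even_pow.mpr ⟨even_two, by omega⟩) odd_one
  have hc : Nat.Coprime (2 ^ a - 1) (2 ^ (a + 1)) :=
    Nat.Coprime.pow_right _ (Nat.coprime_two_right.mpr hodd)
  obtain ⟨q, -, hq, hm⟩ := Nat.forall_exists_prime_gt_and_modEq 0 (by positivity) hc
  refine ⟨q, hq, q / 2 ^ (a + 1), ?_⟩
  have hlt : 2 ^ a - 1 < 2 ^ (a + 1) := by rw [pow_succ]; omega
  conv_lhs => rw [← Nat.div_add_mod q (2 ^ (a + 1)), hm, Nat.mod_eq_of_lt hlt]

/-- The data of the model. -/
structure Model (a : ℕ) where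
  /-- the group -/
  G : Type
  [grp : Group G]
  [fin : Finite G]
  /-- the field of definition's unit group, as a group of scalars -/
  Z : Subgroup G
  /-- generator of the cyclic subgroup -/
  X : G
  /-- the involution -/
  Y : G
  normal : Z.Normal
  ordX : orderOf X = 2 ^ (a + 1)
  notMemY : ∀ z ∈ Z, ∀ j : ℤ, Y ≠ X ^ j * z
  sqY : Y * Y = 1
  rel : Y * X * Y⁻¹ = X ^ (2 ^ a - 1)
  conj : ∃ g : G, g * X ^ 2 ^ (a - 1) * g⁻¹ = X * Y
  topX : X ^ 2 ^ a ∈ Z
  halfX : X ^ 2 ^ (a - 1) ∉ Z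
  card : ¬ 2 ^ (a + 3) ∣ Nat.card G
  cardZ : 2 ∣ Nat.card Z
  /-- the sign of the determinant -/
  char : ∃ (C : Type) (_ : CommGroup C) (χ : G →* C), (∀ w, χ w * χ w = 1) ∧ χ Y ≠ 1 ∧
    ∀ v w, χ v ≠ 1 → χ w ≠ 1 → χ v * χ w = 1

theorem exists_model {a : ℕ} (ha : 2 ≤ a) : Nonempty (Model a) := by
  classical
  obtain ⟨q, hq, k, hk⟩ := exists_prime_class ha
  have h4 : 4 ≤ 2 ^ a := le_trans (by norm_num) (Nat.pow_le_pow_right (by norm_num) ha)
  have hpow : 2 ^ (a - 1) * 2 = 2 ^ a := by rw [← pow_succ, show a - 1 + 1 = a by omega]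
  have hq1 : q + 1 = 2 ^ a * (2 * k + 1) := by
    have : 2 ^ (a + 1) * k = 2 ^ a * (2 * k) := by rw [pow_succ, mul_assoc]
    rw [hk, this, mul_add, mul_one]; omega
  obtain ⟨w, hw⟩ : ∃ w, q - 1 = 2 * (2 * w + 1) := by
    refine ⟨2 ^ (a - 2) * (2 * k + 1) - 1, ?_⟩
    have h5 : 2 ^ a = 4 * 2 ^ (a - 2) := by
      rw [show (4 : ℕ) = 2 ^ 2 by norm_num, ← pow_add, show 2 + (a - 2) = a by omega]
    rw [h5, mul_assoc] at hq1
    have := Nat.one_le_iff_ne_zero.mpr
      (mul_ne_zero (pow_ne_zero (a - 2) (two_ne_zero (α := ℕ))) (Nat.succ_ne_zero (2 * k)))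
    omega
  haveI : Fact q.Prime := ⟨hq⟩
  let K := ZMod q
  let L := GaloisField q 2
  haveI : Finite L := inferInstance
  haveI : Fintype L := Fintype.ofFinite L
  have hcardL : Nat.card L = q ^ 2 := GaloisField.card q 2 (by norm_num)
  have hqodd : Odd q := ⟨2 * w + 1, by have := hq.two_le; omega⟩
  have hq2 : 2 < q := by have := hq.two_le; rcases hqodd with ⟨r, hr⟩; omega
  -- an element of order `2 ^ (a + 1)`
  obtain ⟨x, hx⟩ : ∃ x : Lˣ, orderOf x = 2 ^ (a + 1) := by
    obtain ⟨γ, hγ⟩ := IsCyclic.exists_generator (α := Lˣ)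
    have hord : orderOf γ = q ^ 2 - 1 := by
      rw [orderOf_eq_card_of_forall_mem_zpowers hγ, Nat.card_units, hcardL]
    have hdvd : 2 ^ (a + 1) ∣ q ^ 2 - 1 := by
      refine ⟨(2 * k + 1) * (2 * w + 1), ?_⟩
      calc q ^ 2 - 1 = q ^ 2 - 1 ^ 2 := by rw [one_pow]
        _ = (q + 1) * (q - 1) := Nat.sq_sub_sq q 1
        _ = 2 ^ (a + 1) * ((2 * k + 1) * (2 * w + 1)) := by rw [hq1, hw, pow_succ]; ring
    refine ⟨γ ^ (orderOf γ / 2 ^ (a + 1)), ?_⟩
    rw [orderOf_pow_orderOf_div (by rw [hord]; have := Nat.le_self_pow (two_ne_zero) q; omega)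
      (hord ▸ hdvd)]
  set xl : L := (x : L) with hxl
  have hordxl : orderOf xl = 2 ^ (a + 1) := orderOf_units.trans hx
  have hxtop : xl ^ 2 ^ a = -1 := by
    have h1 : (xl ^ 2 ^ a) ^ 2 = 1 := by
      rw [← pow_mul, ← pow_succ, ← hordxl, pow_orderOf_eq_one]
    rcases sq_eq_one_iff.mp h1 with h | h
    · exfalso
      have := orderOf_dvd_of_pow_eq_one h
      rw [hordxl, Nat.pow_dvd_pow_iff_le_right (by norm_num)] at this
      omega
    · exact h
  have hxq1 : xl ^ (q + 1) = -1 := by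
    rw [hq1, pow_mul, hxtop, Odd.neg_one_pow ⟨k, rfl⟩]
  have hxq : xl ^ q = xl ^ (2 ^ a - 1) := by
    refine (congrArg (xl ^ ·) hk).trans ?_
    change xl ^ (2 ^ (a + 1) * k + (2 ^ a - 1)) = _
    rw [pow_add, pow_mul, ← hordxl, pow_orderOf_eq_one, one_pow, one_mul]
  set il : L := xl ^ 2 ^ (a - 1) with hil
  have hi2 : il * il = -1 := by
    rw [hil, ← pow_add, show 2 ^ (a - 1) + 2 ^ (a - 1) = 2 ^ a by omega, hxtop]
  have hiq : il ^ q = -il := by
    have hq' : q = 2 * (2 * w + 1) + 1 := by omega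
    refine (congrArg (il ^ ·) hq').trans ?_
    change il ^ (2 * (2 * w + 1) + 1) = _
    rw [pow_succ, pow_mul, sq, hi2, Odd.neg_one_pow ⟨w, rfl⟩, neg_one_mul]
  have hne : (-1 : L) ≠ 1 := fun h => by
    have h2 : ((2 : ℕ) : L) = 0 := by
      rw [Nat.cast_two, ← one_add_one_eq_two]; nth_rw 1 [← h]; exact neg_add_cancel 1
    rw [CharP.cast_eq_zero_iff L q] at h2
    have := Nat.le_of_dvd (by norm_num) h2
    omega
  have hfix : ∀ c : K, (algebraMap K L c) ^ q = algebraMap K L c := fun c => by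
    rw [← map_pow, ZMod.pow_card]
  -- the Frobenius
  let σ : L ≃ₗ[K] L := (FiniteField.frobeniusAlgEquivOfAlgebraic K L).toLinearEquiv
  have hσ : ∀ l : L, σ l = l ^ q := fun l => by
    change (FiniteField.frobeniusAlgEquivOfAlgebraic K L) l = _
    simp [K, ZMod.card]
  let μ : Lˣ →* (L ≃ₗ[K] L) :=
    { toFun := fun c => LinearEquiv.ofLinear (LinearMap.mulLeft K (c : L))
        (LinearMap.mulLeft K ((c⁻¹ : Lˣ) : L)) (by ext l; simp) (by ext l; simp)
      map_one' := by ext l; simp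
      map_mul' := fun c d => by ext l; simp [mul_assoc] }
  have hμ : ∀ (c : Lˣ) (l : L), μ c l = (c : L) * l := fun c l => rfl
  -- two bases
  have hfr : Fintype.card (Fin 2) = Module.finrank K L := by
    rw [Fintype.card_fin, GaloisField.finrank q (by norm_num)]
  have hind : ∀ l : L, l ^ q ≠ l → LinearIndependent K ![(1 : L), l] := by
    intro l hl
    refine LinearIndependent.pair_iff.mpr fun s t hst => ?_
    rw [Algebra.smul_def, Algebra.smul_def, mul_one] at hst
    have h2 := congrArg σ hst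
    rw [map_add, map_zero, hσ, hσ, mul_pow, hfix, hfix] at h2
    have h3 : algebraMap K L t * (l ^ q - l) = 0 := by linear_combination h2 - hst
    have ht : algebraMap K L t = 0 := (mul_eq_zero.mp h3).resolve_right (sub_ne_zero.mpr hl)
    rw [ht, zero_mul, add_zero] at hst
    exact ⟨(map_eq_zero _).mp hst, (map_eq_zero _).mp ht⟩
  have hil0 : il ≠ 0 := pow_ne_zero _ x.ne_zero
  have hiq' : il ^ q ≠ il := by
    rw [hiq]
    intro h
    apply hne
    calc (-1 : L) = -il * il⁻¹ := by rw [neg_mul, mul_inv_cancel₀ hil0]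
      _ = 1 := by rw [h, mul_inv_cancel₀ hil0]
  have hxq' : xl ^ q ≠ xl := fun h => hiq' (by rw [hil, ← pow_mul, mul_comm, pow_mul, h])
  let bI := basisOfLinearIndependentOfCardEqFinrank (hind il hiq') hfr
  let bX := basisOfLinearIndependentOfCardEqFinrank (hind xl hxq') hfr
  have hbI : ∀ i, bI i = ![(1 : L), il] i := fun i =>
    congrFun (coe_basisOfLinearIndependentOfCardEqFinrank (hind il hiq') hfr) i
  have hbX : ∀ i, bX i = ![(1 : L), xl] i := fun i =>
    congrFun (coe_basisOfLinearIndependentOfCardEqFinrank (hind xl hxq') hfr) i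
  let g : L ≃ₗ[K] L := bI.equiv bX (Equiv.refl _)
  have hg0 : g 1 = 1 := by
    have := bI.equiv_apply (i := 0) (b' := bX) (e := Equiv.refl _)
    simpa [hbI, hbX] using this
  have hg1 : g il = xl := by
    have := bI.equiv_apply (i := 1) (b' := bX) (e := Equiv.refl _)
    simpa [hbI, hbX] using this
  -- into matrices
  let Φ : (L ≃ₗ[K] L) →* GL (Fin 2) K :=
    (Units.map (LinearMap.toMatrixAlgEquiv bI).toMonoidHom).comp
      (LinearMap.GeneralLinearGroup.generalLinearEquiv K L).symm.toMonoidHom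
  have hΦ : Function.Injective Φ := by
    intro c d h
    exact (LinearMap.GeneralLinearGroup.generalLinearEquiv K L).symm.injective
      (Units.map_injective (f := (LinearMap.toMatrixAlgEquiv bI).toMonoidHom)
        (LinearMap.toMatrixAlgEquiv bI).injective h)
  have hμi : Function.Injective μ := fun c d h => Units.ext (by
    simpa [hμ] using LinearEquiv.congr_fun h 1)
  let s : Kˣ →* GL (Fin 2) K := Units.map (Matrix.scalar (Fin 2) : K →+* _).toMonoidHom
  have hs : ∀ c : Kˣ, s c = Φ (μ (Units.map (algebraMap K L).toMonoidHom c)) := by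
    intro c
    refine Units.ext ?_
    change Matrix.scalar (Fin 2) (c : K) = LinearMap.toMatrixAlgEquiv bI _
    rw [show ((LinearMap.GeneralLinearGroup.generalLinearEquiv K L).symm.toMonoidHom
      (μ (Units.map (algebraMap K L).toMonoidHom c)) : Module.End K L) =
        algebraMap K (Module.End K L) (c : K) from ?_]
    · rw [AlgEquiv.commutes]; rfl
    · ext l
      change (algebraMap K L (c : K)) * l = _
      rw [Module.algebraMap_end_apply, Algebra.smul_def]
  have hnotY : ∀ z ∈ s.range, ∀ j : ℤ, Φ σ ≠ Φ (μ x) ^ j * z := by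
    rintro z ⟨c, rfl⟩ j h
    rw [hs, ← map_zpow, ← map_mul, ← map_zpow, ← map_mul] at h
    have h1 := hΦ h
    have h2 := LinearEquiv.congr_fun h1 1
    rw [hσ, one_pow, hμ, mul_one] at h2
    apply hiq'
    have h3 := LinearEquiv.congr_fun h1 il
    rw [hσ, hμ, ← h2, one_mul] at h3
    exact h3
  refine ⟨{
    G := GL (Fin 2) K
    Z := s.range
    X := Φ (μ x)
    Y := Φ σ
    normal := ⟨fun z hz h => ?_⟩
    ordX := by rw [orderOf_injective _ hΦ, orderOf_injective _ hμi, hx]
    notMemY := hnotY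
    sqY := ?_
    rel := ?_
    conj := ?_
    topX := ?_
    halfX := ?_
    card := ?_
    cardZ := ?_
    char := ?_ }⟩
  · obtain ⟨c, rfl⟩ := hz
    refine ⟨c, Units.ext ?_⟩
    change Matrix.scalar (Fin 2) (c : K) =
      (h : Matrix (Fin 2) (Fin 2) K) * Matrix.scalar (Fin 2) (c : K) * ((h⁻¹ : GL (Fin 2) K) : Matrix _ _ K)
    rw [← (Matrix.scalar_commute (c : K) (fun r' => mul_comm _ r')
      (h : Matrix (Fin 2) (Fin 2) K)).eq, mul_assoc, ← Units.val_mul, mul_inv_cancel,
      Units.val_one, mul_one]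
  · rw [← map_mul, ← map_one Φ]
    congr 1
    refine LinearEquiv.ext fun l => ?_
    rw [LinearEquiv.mul_apply, hσ, hσ, ← pow_mul, ← sq, ← hcardL, Nat.card_eq_fintype_card,
      FiniteField.pow_card]
    rfl
  · rw [mul_inv_eq_iff_eq_mul, ← map_mul, ← map_pow, ← map_mul]
    congr 1
    refine LinearEquiv.ext fun l => ?_
    rw [LinearEquiv.mul_apply, LinearEquiv.mul_apply, ← map_pow, hμ, hμ, hσ, hσ, mul_pow,
      Units.val_pow_eq_pow_val, ← hxl, hxq]
  · refine ⟨Φ g, ?_⟩
    rw [mul_inv_eq_iff_eq_mul, ← map_pow, ← map_pow, ← map_mul, ← map_mul, ← map_mul]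
    congr 1
    refine LinearEquiv.toLinearMap_injective (bI.ext fun i => ?_)
    simp only [LinearEquiv.coe_coe, LinearEquiv.mul_apply, hμ, hσ, Units.val_pow_eq_pow_val,
      ← hxl, ← hil, hbI]
    fin_cases i
    · simp [hg0, hg1]
    · simp only [Fin.mk_one, Matrix.cons_val_one, Matrix.cons_val_fin_one, hi2, hg1]
      rw [map_neg, hg0, ← pow_succ', hxq1]
  · refine ⟨-1, ?_⟩
    rw [hs, ← map_pow, ← map_pow]
    congr 2
    refine Units.ext ?_
    simp [← hxl, hxtop]
  · rintro ⟨c, hc⟩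
    rw [hs, ← map_pow, ← map_pow] at hc
    have h1 : algebraMap K L (c : K) = il := by
      simpa [← hxl, hil] using congrArg Units.val (hμi (hΦ hc))
    exact hiq' (h1 ▸ hfix _)
  · have hc : Nat.card (GL (Fin 2) K) = (q ^ 2 - 1) * (q ^ 2 - q) := by
      rw [Matrix.card_GL_field, Fin.prod_univ_two]; simp [K, ZMod.card]
    rw [hc, show q ^ 2 - 1 = (q + 1) * (q - 1) by simpa using Nat.sq_sub_sq q 1,
      show q ^ 2 - q = q * (q - 1) by rw [Nat.mul_sub, mul_one, sq], hq1, hw]
    intro h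
    obtain ⟨c, hcc⟩ := h
    have h6 : 2 ^ (a + 2) * ((2 * k + 1) * (2 * w + 1) * (q * (2 * w + 1))) =
        2 ^ (a + 2) * (2 * c) := by
      calc _ = 2 ^ a * (2 * k + 1) * (2 * (2 * w + 1)) * (q * (2 * (2 * w + 1))) := by ring
        _ = _ := by rw [hcc]; ring
    have h7 := Nat.eq_of_mul_eq_mul_left (by positivity) h6
    have hodd : Odd ((2 * k + 1) * (2 * w + 1) * (q * (2 * w + 1))) :=
      (((odd_two_mul_add_one k).mul (odd_two_mul_add_one w)).mul
        (hqodd.mul (odd_two_mul_add_one w)))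
    rw [h7] at hodd
    exact Nat.not_even_iff_odd.mpr hodd (even_two_mul c)
  · rw [← Nat.card_congr (MonoidHom.ofInjective (f := s) ?_).toEquiv, Nat.card_units,
      Nat.card_zmod, hw]
    · exact dvd_mul_right _ _
    · refine Units.map_injective ?_
      exact fun a b h => Matrix.scalar_inj.mp h
  · refine ⟨Kˣ, inferInstance, (powMonoidHom (2 * w + 1)).comp Matrix.GeneralLinearGroup.det,
      ?_, ?_, fun v u hv hu => ?_⟩
    · intro h
      change (Matrix.GeneralLinearGroup.det h) ^ (2 * w + 1) *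
        (Matrix.GeneralLinearGroup.det h) ^ (2 * w + 1) = 1
      rw [← pow_add, ← two_mul, ← hw, ← ZMod.card_units q, pow_card_eq_one]
    · intro h
      have hv : ((Φ σ : GL (Fin 2) K) : Matrix (Fin 2) (Fin 2) K) = !![1, 0; 0, -1] := by
        ext i j
        change LinearMap.toMatrixAlgEquiv bI (σ : L →ₗ[K] L) i j = _
        rw [LinearMap.toMatrixAlgEquiv_apply]
        fin_cases j
        · have h0 : σ (bI 0) = bI 0 := by simp [hbI, hσ]
          fin_cases i <;> simp [h0]
        · have h1 : σ (bI 1) = -bI 1 := by simp [hbI, hσ, hiq]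
          fin_cases i <;> simp [h1]
      have h1 : (-1 : K) = 1 := by
        have := congrArg Units.val h
        simpa [hv, Matrix.det_fin_two_of, Odd.neg_one_pow ⟨w, rfl⟩] using this
      have := congrArg (algebraMap K L) h1
      rw [map_neg, map_one] at this
      exact hne this
    · have hm : ∀ d : Kˣ, (d ^ (2 * w + 1)) * d ^ (2 * w + 1) = 1 := fun d => by
        rw [← pow_add, ← two_mul, ← hw, ← ZMod.card_units q, pow_card_eq_one]
      have hneg : ∀ d : Kˣ, d * d = 1 → d ≠ 1 → d = -1 := fun d hd hd1 => Units.ext (by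
        rcases mul_self_eq_one_iff.mp (congrArg Units.val hd) with h | h
        · exact absurd (Units.ext h) hd1
        · exact h)
      change (Matrix.GeneralLinearGroup.det v) ^ (2 * w + 1) *
        (Matrix.GeneralLinearGroup.det u) ^ (2 * w + 1) = 1
      rw [hneg _ (hm _) hv, hneg _ (hm _) hu]
      simp

end Cfsg.Agent.SupersolType
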